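import Groth.Agent.Lib.OX.QCohStalk
import Groth.Agent.Lib.OX.Exact
import Groth.Agent.Lib.OX.PullbackFlat
import Mathlib.AlgebraicGeometry.Modules.Tilde
import Mathlib.CategoryTheory.Preadditive.Injective.Basic
import Groth.Prelude.Def_Wider

/-!
# Skyscraper modules are injective; the sheaf of a power torsion module on a local scheme
-/

set_option autoImplicit false
set_option maxHeartbeats 400000
set_option backward.isDefEq.respectTransparency false
set_option linter.style.haveILetI false

universe u

open CategoryTheory CategoryTheory.Limits AlgebraicGeometry Opposite TopologicalSpace IsLocalRing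

namespace GrothLib.InjSky20

variable {X Y : Scheme.{u}}

/-- The skyscraper of an injective module is injective. -/
theorem injective_sky (x : X) (N : ModuleCat.{u} (X.presheaf.stalk x)) [Injective N] :
    Injective ((OX.sky x).obj N) :=
  Injective.injective_of_adjoint (OX.stalkSkyAdj x) N

/-- The direct image of an injective module along a flat morphism is injective. -/
theorem injective_pushforward_of_flat (f : X ⟶ Y) [Flat f] (I : X.Modules) [Injective I] :
    Injective ((Scheme.Modules.pushforward f).obj I) := by
  haveI := OX.preservesFiniteLimits_pullback_of_flat f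
  haveI : (Scheme.Modules.pullback f).PreservesMonomorphisms :=
    preservesMonomorphisms_of_preservesLimitsOfShape _
  exact Injective.injective_of_adjoint (Scheme.Modules.pullbackPushforwardAdjunction f) I

theorem flat_fromSpecStalk (x : X) : Flat (X.fromSpecStalk x) := by
  obtain ⟨_, ⟨U, hU, rfl⟩, hxU, -⟩ :=
    X.isBasis_affineOpens.exists_subset_of_mem_open (Set.mem_univ x) isOpen_univ
  rw [← hU.fromSpecStalk_eq_fromSpecStalk hxU]
  letI : Algebra Γ(X, U) (X.presheaf.stalk x) := (X.presheaf.germ U x hxU).hom.toAlgebra
  haveI : IsLocalization.AtPrime (X.presheaf.stalk x) (hU.primeIdealOf ⟨x, hxU⟩).asIdeal :=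
    hU.isLocalization_stalk ⟨x, hxU⟩
  haveI : Flat (Spec.map (X.presheaf.germ U x hxU)) := by
    rw [HasRingHomProperty.Spec_iff (P := @Flat)]
    show RingHom.Flat (algebraMap Γ(X, U) (X.presheaf.stalk x))
    rw [RingHom.flat_algebraMap_iff]
    exact IsLocalization.flat _ (hU.primeIdealOf ⟨x, hxU⟩).asIdeal.primeCompl
  exact MorphismProperty.comp_mem @Flat (Spec.map (X.presheaf.germ U x hxU)) hU.fromSpec
    inferInstance inferInstance

variable {A : CommRingCat.{u}} [IsLocalRing A] (M : ModuleCat.{u} A)

/-- Sections of the sheaf of a power torsion module vanish away from the closed point. -/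
theorem eq_zero_of_closedPoint_notMem (hM : LocCoh.IsPowerTorsion (maximalIdeal A) M)
    (U : (Spec A).Opens) (hU : closedPoint A ∉ U) (s : Γ(tilde M, U)) : s = 0 := by
  refine TopCat.Presheaf.section_ext ⟨(tilde M).presheaf, (tilde M).isSheaf⟩ U s 0 fun y hy => ?_
  rw [map_zero]
  obtain ⟨⟨m, t⟩, ht⟩ := IsLocalizedModule.surj (PrimeSpectrum.asIdeal y).primeCompl
    (tilde.toStalk M y).hom ((tilde M).presheaf.germ U y hy s)
  obtain ⟨n, hn⟩ := hM m
  have hy' : ¬ maximalIdeal A ≤ y.asIdeal := fun hle => hU <| by
    have : y = closedPoint A := PrimeSpectrum.ext ((maximalIdeal.isMaximal A).eq_of_le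
      y.isPrime.ne_top hle).symm
    exact this ▸ hy
  obtain ⟨r, hr, hr'⟩ := SetLike.not_le_iff_exists.1 hy'
  have hm0 : (tilde.toStalk M y).hom m = 0 := by
    refine IsLocalizedModule.smul_injective (tilde.toStalk M y).hom (⟨r ^ n, fun h => hr'
      (y.isPrime.mem_of_pow_mem n h)⟩ : y.asIdeal.primeCompl) ?_
    change r ^ n • (tilde.toStalk M y).hom m = r ^ n • 0
    rw [← map_smul, hn _ (Ideal.pow_mem_pow hr n), map_zero, smul_zero]
  have h2 : t • ((tilde M).presheaf.germ U y hy s) = 0 := ht.trans hm0
  exact (IsLocalizedModule.smul_injective (tilde.toStalk M y).hom t) (h2.trans (smul_zero _).symm)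

/-- The sheaf of a power torsion module on a local scheme is the skyscraper at the closed point. -/
theorem isIso_unit_app (hM : LocCoh.IsPowerTorsion (maximalIdeal A) M) :
    IsIso ((OX.stalkSkyAdj (closedPoint A)).unit.app (tilde M)) := by
  rw [Scheme.Modules.Hom.isIso_iff_isIso_app]
  intro U
  rw [ConcreteCategory.isIso_iff_bijective]
  by_cases hU : closedPoint A ∈ U
  · have hT : U = ⊤ := closed_point_mem_iff.mp hU
    subst hT
    constructor
    · intro s t h
      have h' : OX.germ (x := closedPoint A) (DCoh.toP.obj (tilde M)) ⊤ hU s =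
          OX.germ (x := closedPoint A) (DCoh.toP.obj (tilde M)) ⊤ hU t := by
        exact congrFun h ⟨hU⟩
      obtain ⟨W, hW, i₁, i₂, h''⟩ := TopCat.Presheaf.germ_eq (tilde M).presheaf (closedPoint A)
        (U := ⊤) (V := ⊤) hU hU s t h'
      have hW' : W = ⊤ := closed_point_mem_iff.mp hW
      subst hW'
      simpa [Subsingleton.elim i₁ (𝟙 _), Subsingleton.elim i₂ (𝟙 _)] using h''
    · intro e
      obtain ⟨W, hW, s, hs⟩ := OX.germ_exists (x := closedPoint A) (DCoh.toP.obj (tilde M)) (e ⟨hU⟩)
      have hW' : W = ⊤ := closed_point_mem_iff.mp hW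
      subst hW'
      exact ⟨s, funext fun _ => hs⟩
  · constructor
    · intro s t _
      rw [eq_zero_of_closedPoint_notMem M hM U hU s, eq_zero_of_closedPoint_notMem M hM U hU t]
    · intro e
      exact ⟨0, funext fun h => absurd h.down hU⟩

/-- An extension of scalars along a bijection preserves injectives. -/
theorem injective_extendScalars {B C : Type u} [CommRing B] [CommRing C] (τ : B →+* C)
    (hτ : Function.Bijective τ) (N : ModuleCat.{u} B) [Injective N] :
    Injective ((ModuleCat.extendScalars.{u, u, u} τ).obj N) := by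
  haveI : (ModuleCat.restrictScalars.{u} τ).IsEquivalence :=
    ModuleCat.restrictScalars_isEquivalence_of_ringEquiv (RingEquiv.ofBijective τ hτ)
  haveI : (ModuleCat.extendScalars.{u, u, u} τ).IsEquivalence :=
    (ModuleCat.extendRestrictScalarsAdj τ).isEquivalence_left_of_isEquivalence_right
  exact ((ModuleCat.extendScalars.{u, u, u} τ).asEquivalence.map_injective_iff N).2 ‹_›

/-- The sheaf of an injective power torsion module on a local scheme is injective. -/
theorem injective_tilde (hM : LocCoh.IsPowerTorsion (maximalIdeal A) M) [Injective M] :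
    Injective (tilde M) := by
  haveI := isIso_unit_app M hM
  haveI : Injective ((OX.stalk (closedPoint A)).obj (tilde M)) := by
    haveI := injective_extendScalars _ (OX.specToStalk_closedPoint_bijective A) M
    exact Injective.of_iso ((OX.tildeStalkIso A (closedPoint A)).app M).symm inferInstance
  have h := injective_sky (X := Spec A) (closedPoint A) ((OX.stalk (closedPoint A)).obj (tilde M))
  exact Injective.of_iso (asIso ((OX.stalkSkyAdj (X := Spec A) (closedPoint A)).unit.app (tilde M))).symm h

end GrothLib.InjSky20
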