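import Groth.Agent.Lib.ExtTilde20.StalkExt
import Groth.Agent.Lib.HomRestrict20.Basic
import Mathlib.Algebra.Homology.DerivedCategory.Ext.ExactSequences
import Mathlib.Algebra.Module.Injective
import Mathlib.AlgebraicGeometry.Noetherian

/-!
# Stalks of injective modules on a locally Noetherian scheme are injective
-/

set_option autoImplicit false
set_option maxHeartbeats 400000
set_option linter.style.haveILetI false
set_option backward.isDefEq.respectTransparency false

universe u

open CategoryTheory CategoryTheory.Limits AlgebraicGeometry Opposite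

namespace GrothLib.InjSky20

section Affine

variable {R : CommRingCat.{u}} [IsNoetherianRing R] (y : Spec R)

theorem subsingleton_ext_stalk (M : ModuleCat.{u} R) [Module.Finite R M] (I : (Spec R).Modules)
    [Injective I] :
    Subsingleton (Abelian.Ext ((ExtTilde20.tS y).obj M) ((OX.stalk y).obj I) 1) := by
  haveI := ExtTilde20.hasInjectiveResolutions_mod (Spec R)
  haveI := SheafCoh.hasSheafHom (Spec R).sheaf ((tilde.functor R).obj M)
  haveI := HomRestrict20.additive_sheafHom (Z := Spec R) ((tilde.functor R).obj M)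
  obtain ⟨Q, ⟨a⟩⟩ := ExtTilde20.nonempty_stalk_extSh_tilde_iso y M I 1
  haveI hI : Injective (C := ModSite.Mod (Spec R).sheaf) I := ‹Injective I›
  have hz : IsZero (((ModSite.extSh (O := (Spec R).sheaf) ((tilde.functor R).obj M) 1).obj I :
      (Spec R).Modules)) :=
    Functor.isZero_rightDerived_obj_injective_succ _ 0 I
  have hz2 : IsZero (((Ext ((Spec R).presheaf.stalk y) (ModuleCat.{u} ((Spec R).presheaf.stalk y)) 1).obj
      (op ((ExtTilde20.tS y).obj M))).obj ((OX.stalk y).obj I)) :=
    (Functor.map_isZero (OX.stalk y) hz).of_iso (Q.isoExt 1 _ ≪≫ a.symm)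
  haveI := ModuleCat.subsingleton_of_isZero hz2
  exact (LC.extEquiv _ _ 1).symm.injective.subsingleton

theorem baer_stalk (I : (Spec R).Modules) [Injective I] :
    Module.Baer R ((ModuleCat.restrictScalars (OX.specToStalk R y)).obj ((OX.stalk y).obj I)) := by
  intro J g
  haveI := ExtTilde20.preservesHomology_tS y
  let adj : ExtTilde20.tS y ⊣ ModuleCat.restrictScalars (OX.specToStalk R y) :=
    ((tilde.adjunction (R := R)).comp (OX.stalkSkyAdj y)).ofNatIsoRight (OX.skyΓIso R y)
  let S := ShortComplex.mk (ModuleCat.ofHom J.subtype) (ModuleCat.ofHom J.mkQ)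
    (by ext x; exact (Submodule.Quotient.mk_eq_zero J).2 x.2)
  have hS : S.ShortExact :=
    ShortComplex.ShortExact.mk' ((ShortComplex.moduleCat_exact_iff_range_eq_ker _).2
      (by simp [S])) ((ModuleCat.mono_iff_injective _).2 J.subtype_injective)
      ((ModuleCat.epi_iff_surjective _).2 J.mkQ_surjective)
  have hT := hS.map_of_exact (ExtTilde20.tS y)
  let gm : ModuleCat.of R J ⟶ (ModuleCat.restrictScalars (OX.specToStalk R y)).obj ((OX.stalk y).obj I) :=
    ConcreteCategory.ofHom (C := ModuleCat.{u} R) g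
  let g' := (adj.homEquiv (ModuleCat.of R J) ((OX.stalk y).obj I)).symm gm
  haveI := subsingleton_ext_stalk y (ModuleCat.of R (R ⧸ J)) I
  obtain ⟨x₂, hx₂⟩ := Abelian.Ext.contravariant_sequence_exact₁ hT ((OX.stalk y).obj I)
    (Abelian.Ext.mk₀ g') (n₁ := 1) (add_zero 1) (Subsingleton.elim (α := Abelian.Ext ((ExtTilde20.tS y).obj (ModuleCat.of R (R ⧸ J))) ((OX.stalk y).obj I) 1) _ _)
  obtain ⟨h, rfl⟩ := (Abelian.Ext.mk₀_bijective _ _).2 x₂
  rw [Abelian.Ext.mk₀_comp_mk₀] at hx₂
  have e := (Abelian.Ext.mk₀_bijective _ _).1 hx₂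
  refine ⟨((adj.homEquiv _ _) h).hom, fun x hx => ?_⟩
  have e2 : ModuleCat.ofHom J.subtype ≫ (adj.homEquiv _ _) h = gm := by
    rw [← adj.homEquiv_naturality_left]
    exact (congrArg (adj.homEquiv _ _) e).trans (Equiv.apply_symm_apply _ _)
  exact ConcreteCategory.congr_hom e2 ⟨x, hx⟩

theorem injective_of_baer_restrict (N : ModuleCat.{u} ((Spec R).presheaf.stalk y))
    (hN : Module.Baer R ((ModuleCat.restrictScalars (OX.specToStalk R y)).obj N)) :
    Module.Injective ((Spec R).presheaf.stalk y) N := by
  letI : Algebra R ((Spec R).presheaf.stalk y) := (StructureSheaf.toStalk R y).hom.toAlgebra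
  haveI : IsLocalization.AtPrime ((Spec R).presheaf.stalk y) y.asIdeal :=
    StructureSheaf.IsLocalization.to_stalk R y
  have hφ : ∀ r : R, OX.specToStalk R y r = algebraMap R ((Spec R).presheaf.stalk y) r := fun r => rfl
  refine Module.Baer.injective fun J g => ?_
  let g₀ : (J.comap (OX.specToStalk R y)) →ₗ[R]
      (ModuleCat.restrictScalars (OX.specToStalk R y)).obj N :=
    { toFun := fun a => g ⟨OX.specToStalk R y a, a.2⟩
      map_add' := fun a b => (congrArg g (Subtype.ext (map_add _ _ _))).trans (map_add g _ _)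
      map_smul' := fun r a => (congrArg g (Subtype.ext (map_mul (OX.specToStalk R y) r a))).trans
        (g.map_smul (OX.specToStalk R y r) ⟨_, a.2⟩) }
  obtain ⟨h, hh⟩ := hN _ g₀
  refine ⟨LinearMap.toSpanSingleton _ N (h 1), fun j hj => ?_⟩
  obtain ⟨⟨a, s⟩, e⟩ := IsLocalization.surj y.asIdeal.primeCompl j
  have hu : IsUnit (algebraMap R ((Spec R).presheaf.stalk y) s) :=
    IsLocalization.map_units _ s
  have ha : a ∈ J.comap (OX.specToStalk R y) := by
    change OX.specToStalk R y a ∈ J
    rw [hφ, ← e]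
    exact J.mul_mem_right _ hj
  have h1 : OX.specToStalk R y a • (h 1 : N) = g ⟨OX.specToStalk R y a, ha⟩ := by
    refine Eq.trans ?_ (hh a ha)
    refine Eq.trans ?_ (congrArg h (mul_one a))
    exact (h.map_smul a 1).symm
  have h2 : (algebraMap R ((Spec R).presheaf.stalk y) s) • (j • (h 1 : N)) =
      (algebraMap R ((Spec R).presheaf.stalk y) s) • g ⟨j, hj⟩ := by
    rw [smul_smul, mul_comm, e, ← hφ]
    refine h1.trans ((congrArg g (Subtype.ext ?_)).trans (g.map_smul _ ⟨j, hj⟩))
    change OX.specToStalk R y a = _ * j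
    rw [hφ, ← e, mul_comm]
  exact hu.smul_left_cancel.1 h2

theorem injective_stalk_spec (I : (Spec R).Modules) [Injective I] :
    Module.Injective ((Spec R).presheaf.stalk y) ((OX.stalk y).obj I) :=
  injective_of_baer_restrict y _ (baer_stalk y I)

end Affine

variable {X : Scheme.{u}} [IsLocallyNoetherian X]

/-- The stalk of an injective module is injective. -/
theorem injective_stalk (I : X.Modules) [Injective I] (x : X) :
    Injective ((OX.stalk x).obj I) := by
  obtain ⟨_, ⟨U, hU, rfl⟩, hxU, -⟩ :=
    X.isBasis_affineOpens.exists_subset_of_mem_open (Set.mem_univ x) isOpen_univ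
  haveI : IsNoetherianRing Γ(X, U) := IsLocallyNoetherian.component_noetherian ⟨U, hU⟩
  obtain ⟨y, rfl⟩ : x ∈ Set.range hU.fromSpec := hU.range_fromSpec.symm ▸ hxU
  haveI := HomRestrict20.injective_restrictFunctor hU.fromSpec I ‹_›
  have hinj := injective_stalk_spec y ((Scheme.Modules.restrictFunctor hU.fromSpec).obj I)
  haveI : Injective ((OX.stalk y).obj ((Scheme.Modules.restrictFunctor hU.fromSpec).obj I)) :=
    Module.injective_object_of_injective_module ((Spec Γ(X, U)).presheaf.stalk y) _ (inj := hinj)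
  haveI : (ModuleCat.restrictScalars.{u} (ExtTilde20.openRingEquiv hU.fromSpec y).toRingHom).IsEquivalence :=
    ModuleCat.restrictScalars_isEquivalence_of_ringEquiv (ExtTilde20.openRingEquiv hU.fromSpec y)
  refine Injective.of_iso (ExtTilde20.stalkRestrictIso I hU.fromSpec y).symm ?_
  exact ((ModuleCat.restrictScalars.{u}
    (ExtTilde20.openRingEquiv hU.fromSpec y).toRingHom).asEquivalence.map_injective_iff _).2 inferInstance

end GrothLib.InjSky20
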